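import Mathlib
import Cfsg.Agent.TcData.Suz.R3.Tab

set_option autoImplicit false
set_option Elab.async false
set_option maxRecDepth 100000
set_option linter.all false

namespace Cfsg.Agent.TcData.Suz.R3

open Cfsg.Spor Cfsg.Agent.Lib.TcFacts Cfsg.Agent.Lib.TcBits Cfsg.Agent.Lib.TcPres Cfsg.Spor.Suz Cfsg.Agent.TcData.Suz

theorem b0 : Block F al 0 64 54 :=
  block_of_check (k := 6) rfl (by decide +kernel)

theorem b1 : Block F al 64 128 37 :=
  block_of_check (k := 6) rfl (by decide +kernel)

theorem b2 : Block F al 128 192 21 :=
  block_of_check (k := 6) rfl (by decide +kernel)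

theorem b3 : Block F al 192 256 13 :=
  block_of_check (k := 6) rfl (by decide +kernel)

theorem b4 : Block F al 256 320 5 :=
  block_of_check (k := 6) rfl (by decide +kernel)

theorem b5 : Block F al 320 384 2 :=
  block_of_check (k := 6) rfl (by decide +kernel)

theorem b6 : Block F al 384 448 1 :=
  block_of_check (k := 6) rfl (by decide +kernel)

theorem b7 : Block F al 448 512 1 :=
  block_of_check (k := 6) rfl (by decide +kernel)

theorem b8 : Block F al 512 576 1 :=
  block_of_check (k := 6) rfl (by decide +kernel)

theorem b9 : Block F al 576 640 0 :=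
  block_of_check (k := 6) rfl (by decide +kernel)

theorem b10 : Block F al 640 704 0 :=
  block_of_check (k := 6) rfl (by decide +kernel)

theorem b11 : Block F al 704 768 0 :=
  block_of_check (k := 6) rfl (by decide +kernel)

theorem b12 : Block F al 768 832 0 :=
  block_of_check (k := 6) rfl (by decide +kernel)

theorem b13 : Block F al 832 896 0 :=
  block_of_check (k := 6) rfl (by decide +kernel)

theorem b14 : Block F al 896 960 0 :=
  block_of_check (k := 6) rfl (by decide +kernel)

theorem b15 : Block F al 960 1024 0 :=
  block_of_check (k := 6) rfl (by decide +kernel)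

theorem b16 : Block F al 1024 1088 0 :=
  block_of_check (k := 6) rfl (by decide +kernel)

theorem b17 : Block F al 1088 1152 0 :=
  block_of_check (k := 6) rfl (by decide +kernel)

theorem b18 : Block F al 1152 1216 0 :=
  block_of_check (k := 6) rfl (by decide +kernel)

theorem b19 : Block F al 1216 1280 0 :=
  block_of_check (k := 6) rfl (by decide +kernel)

end Cfsg.Agent.TcData.Suz.R3
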