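import Mathlib
import Cfsg.Agent.TcData.Suz.R3.Blocks

set_option autoImplicit false
set_option Elab.async false
set_option maxRecDepth 100000
set_option linter.all false

namespace Cfsg.Agent.TcData.Suz.R3

open Cfsg.Spor Cfsg.Agent.Lib.TcFacts Cfsg.Agent.Lib.TcBits Cfsg.Agent.Lib.TcPres Cfsg.Agent.Lib.TcRel Cfsg.Spor.Suz Cfsg.Agent.TcData.Suz

theorem hb : ∀ a, a ≤ 4 → base a = true →
    a < 4 ∧ PresentedGroup.mk RR (gLS.getD a 1) ∈ HH := by
  intro a _ h
  have h2 : a ∈ baseL := by simpa [base] using h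
  simp only [baseL, List.mem_cons, List.not_mem_nil, or_false] at h2
  rcases h2 with rfl | rfl
  exacts [⟨by decide, Subgroup.subset_closure ⟨.c, by simp [TL], rfl⟩⟩,
      ⟨by decide, Subgroup.subset_closure ⟨.d, by simp [TL], rfl⟩⟩]

theorem hmac : ∀ s ∈ macros, PresentedGroup.mk RR s ∈ HH := by
  intro s hs
  simp [macros] at hs

theorem hRels : Rels = relLS.map (fun r => encW encS r.toWord) ++
    (macroRels encS 4 macros ++ pairsOf encS SL) := by decide +kernel

theorem hw : ∀ k, k < 25 →
    rotOK Rels 4 (decW 3 7 (10 + 1) (wd k)) (hint k) = true := by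
  decide +kernel

theorem h1alive : aliveB ent 4 2048 1 = true := by decide +kernel

theorem hrelS : ∀ r ∈ relLS, PresentedGroup.mk RR r = 1 :=
  relAllS_spec (by decide) (by decide +kernel)

theorem hrelW : ∀ r ∈ relLS, ∀ p ∈ r.toWord, p.1 ∈ SL := by decide +kernel

theorem hℓS : ∀ x ∈ SL, ∀ b, letter RR gLS macros (encS x b) =
    cond b (PresentedGroup.of x) (PresentedGroup.of x)⁻¹ := by
  intro x hx b
  simp only [SL, List.mem_cons, List.not_mem_nil, or_false] at hx
  rcases hx with rfl | rfl | rfl | rfl <;> cases b <;>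
    first
      | rfl
      | exact map_inv _ _
      | exact (inv_of_node (by decide)).symm

theorem hLS : ∀ x ∈ SL, ∀ b, encS x b < 4 := by decide

theorem hTS : HH ≤ subOf RR SL := subOf_mono (by decide)

theorem relIndex_le' : HH.relIndex (subOf RR SL) ≠ 0 ∧ HH.relIndex (subOf RR SL) ≤ 135 :=
  relIndex_le HH SL hTS gLS macros relLS encS hℓS hLS hrelS hrelW (by simp [macros]) hmac
    ent pa wd side base
    4 2047 11 21 1279 3 7 8 10 1023 25 2048 8192 135 rfl
    (by norm_num) hb Rels hRels hint hw (by norm_num) c19 h1alive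

end Cfsg.Agent.TcData.Suz.R3
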